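import Mathlib
import Groth.Agent.AbhAbs.Main
import Groth.Agent.RegLoc6.Normal
import Groth.Agent.Hensel.IntegralStrict

/-!
# Finite étale covers trivialized by a `p`-th root
-/

set_option autoImplicit false
set_option linter.style.haveILetI false
set_option backward.isDefEq.respectTransparency false
set_option maxHeartbeats 1000000

universe u

open IsLocalRing TensorProduct Polynomial

noncomputable section

namespace Groth.Agent.PthRoot

/-- Elements of the generic fibre integral over a normal base come from the étale algebra. -/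
theorem exists_of_isIntegral {S B K : Type u} [CommRing S] [IsDomain S] [IsIntegrallyClosed S] [CommRing B]
    [Algebra S B] [Algebra.Etale S B] [Module.Finite S B] [Field K] [Algebra S K] [IsFractionRing S K]
    (z : K ⊗[S] B) (hz : IsIntegral S z) : ∃ b : B, (1 : K) ⊗ₜ[S] b = z := by
  let c := Algebra.TensorProduct.comm S K B
  have hz' : IsIntegral B (c z) := (hz.map c).tower_top
  obtain ⟨w, hw⟩ := (EtPBC0.toIntegralClosure_bijective_of_weaklyEtale S B K).2 ⟨c z, hz'⟩
  have hval : ∀ v, ∃ x : B, ((TensorProduct.toIntegralClosure S B K v : integralClosure B (B ⊗[S] K)) :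
      B ⊗[S] K) = x ⊗ₜ (1 : K) := fun v => by
    induction v with
    | zero => exact ⟨0, by simp⟩
    | tmul a e =>
      obtain ⟨e', he'⟩ := IsIntegrallyClosed.isIntegral_iff.1 (show IsIntegral S (e : K) from e.2)
      refine ⟨e' • a, ?_⟩
      rw [TensorProduct.smul_tmul, ← Algebra.algebraMap_eq_smul_one, he']
      rfl
    | add x y hx hy =>
      obtain ⟨a, ha⟩ := hx
      obtain ⟨b, hb⟩ := hy
      exact ⟨a + b, by rw [map_add, Subalgebra.coe_add, ha, hb, TensorProduct.add_tmul]⟩
  obtain ⟨x, hx⟩ := hval w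
  rw [hw] at hx
  exact ⟨x, c.injective ((show c ((1 : K) ⊗ₜ[S] x) = x ⊗ₜ (1 : K) by simp [c]).trans hx.symm)⟩

/-- A point landing in the radical extension whose root is a value: contradiction with unramifiedness. -/
theorem not_mem_range_of_root {A B : Type u} [CommRing A] [CommRing B] [Algebra A B] {f : A}
    (S : Type u) [CommRing S] [Algebra A S] [IsLocalization.Away f S] [Algebra S B] [IsScalarTower A S B]
    [Algebra.FormallyUnramified S B] (p : ℕ) (hp : p.Prime)
    (k : Type u) [Field k] [IsAlgClosed k] [Algebra A k] (hpk : (p : k) = 0) (hfk : algebraMap A k f ≠ 0)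
    (T : Type u) [CommRing T] [Algebra A T] [Algebra (AdjoinRoot (X ^ p - C f : A[X])) T]
    [IsScalarTower A (AdjoinRoot (X ^ p - C f : A[X])) T]
    [IsLocalization.Away (algebraMap A (AdjoinRoot (X ^ p - C f : A[X])) f) T]
    (β : B →ₐ[A] T) (b : B) :
    β b ≠ algebraMap (AdjoinRoot (X ^ p - C f : A[X])) T (AdjoinRoot.root _) := by
  intro hb
  obtain ⟨c, hc⟩ := IsAlgClosed.exists_pow_nat_eq (algebraMap A k f) hp.pos
  let Q := DualNumber k
  let i : k →+* Q := algebraMap k Q
  have hA : ∀ a, algebraMap A Q a = i (algebraMap A k a) := fun a => IsScalarTower.algebraMap_apply A k Q a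
  let a₀ : Q := i c
  let a₁ : Q := i c + DualNumber.eps
  have h0 : a₀ ^ p = algebraMap A Q f := by rw [hA, ← hc, map_pow]
  have heps : (DualNumber.eps : Q) ^ 2 = 0 := by rw [pow_two, DualNumber.eps_mul_eps]
  have h1 : a₁ ^ p = algebraMap A Q f := by
    have hp0 : (p : Q) = 0 := by rw [← map_natCast i, hpk, map_zero]
    haveI : Fact p.Prime := ⟨hp⟩
    haveI : CharP Q p := (CharP.charP_iff_prime_eq_zero hp).2 hp0
    show (a₀ + _) ^ p = _
    rw [add_pow_char, h0, pow_eq_zero_of_le hp.two_le heps, add_zero]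
  have hu : IsUnit (algebraMap A Q f) := (isUnit_iff_ne_zero.2 hfk).map i
  let ψ : ∀ a : Q, a ^ p = algebraMap A Q f → (T →ₐ[A] Q) := fun a ha =>
    let g : AdjoinRoot (X ^ p - C f : A[X]) →ₐ[A] Q := AdjoinRoot.liftAlgHom _ (Algebra.ofId A Q) a (by
      simp [eval₂_pow, ha])
    IsLocalization.liftAlgHom (M := Submonoid.powers (algebraMap A (AdjoinRoot (X ^ p - C f : A[X])) f)) (f := g)
      (by
        rintro ⟨_, m, rfl⟩
        rw [map_pow, g.commutes]
        exact hu.pow m)
  have hψ : ∀ a ha, ψ a ha (algebraMap (AdjoinRoot (X ^ p - C f : A[X])) T (AdjoinRoot.root _)) = a := fun a ha =>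
    (IsLocalization.lift_eq _ _).trans (AdjoinRoot.liftAlgHom_root _ _ _ _)
  letI : Algebra S k := (IsLocalization.Away.lift f (isUnit_iff_ne_zero.2 hfk) : S →+* k).toAlgebra
  haveI : IsScalarTower A S k :=
    IsScalarTower.of_algebraMap_eq (R := A) (S := S) (A := k) fun a => (IsLocalization.Away.lift_eq f _ a).symm
  haveI : IsScalarTower A S Q := IsScalarTower.of_algebraMap_eq (R := A) (S := S) (A := Q) fun a => by
    rw [hA, IsScalarTower.algebraMap_apply S k Q, ← IsScalarTower.algebraMap_apply A S k]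
  let χ : ∀ a : Q, a ^ p = algebraMap A Q f → (B →ₐ[S] Q) := fun a ha =>
    { ((ψ a ha).comp β).toRingHom with
      commutes' := fun x => by
        have h := IsLocalization.ringHom_ext (Submonoid.powers f)
          (j := ((ψ a ha).comp β).toRingHom.comp (algebraMap S B)) (k := algebraMap S Q) (RingHom.ext fun a' => by
            show (ψ a ha).comp β (algebraMap S B (algebraMap A S a')) = algebraMap S Q (algebraMap A S a')
            rw [← IsScalarTower.algebraMap_apply, ← IsScalarTower.algebraMap_apply]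
            exact AlgHom.commutes _ _)
        exact RingHom.congr_fun h x }
  have hfst : ∀ a ha, ∀ x, TrivSqZeroExt.fst (ψ a ha x) =
      IsLocalization.lift (M := Submonoid.powers (algebraMap A (AdjoinRoot (X ^ p - C f : A[X])) f)) (S := T)
        (g := AdjoinRoot.lift (algebraMap A k) (TrivSqZeroExt.fst a) (by
          have h2 := congrArg (TrivSqZeroExt.fstHom k k k) ha
          rw [map_pow] at h2
          simp only [eval₂_sub, eval₂_pow, eval₂_X, eval₂_C, sub_eq_zero]
          exact h2))
        (by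
          rintro ⟨_, m, rfl⟩
          rw [map_pow, AdjoinRoot.algebraMap_eq, AdjoinRoot.lift_of]
          exact (isUnit_iff_ne_zero.2 hfk).pow m) x := by
    intro a ha
    refine fun x => RingHom.congr_fun (f := (TrivSqZeroExt.fstHom k k k).toRingHom.comp (ψ a ha).toRingHom) ?_ x
    refine IsLocalization.ringHom_ext (Submonoid.powers (algebraMap A (AdjoinRoot (X ^ p - C f : A[X])) f)) ?_
    refine AdjoinRoot.ringHom_ext (RingHom.ext fun a' => ?_) ?_
    · simp only [RingHom.comp_apply, IsLocalization.lift_eq, AdjoinRoot.lift_of]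
      show TrivSqZeroExt.fst (ψ a ha (algebraMap _ T (algebraMap A (AdjoinRoot (X ^ p - C f : A[X])) a'))) = _
      rw [← IsScalarTower.algebraMap_apply, (ψ a ha).commutes]
      exact TrivSqZeroExt.fst_inl _ _
    · simp only [RingHom.comp_apply, IsLocalization.lift_eq, AdjoinRoot.lift_root]
      exact congrArg TrivSqZeroExt.fst (hψ a ha)
  have hI : IsNilpotent (RingHom.ker (TrivSqZeroExt.fstHom k k k).toRingHom : Ideal Q) := by
    refine ⟨2, ?_⟩
    show (RingHom.ker (TrivSqZeroExt.fstHom k k k).toRingHom : Ideal Q) ^ 2 = _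
    rw [Submodule.pow_succ, Submodule.pow_one, Ideal.zero_eq_bot, eq_bot_iff, Ideal.mul_le]
    intro x hx y hy
    rw [Ideal.mem_bot]
    have hx' : TrivSqZeroExt.fst x = 0 := hx
    have hy' : TrivSqZeroExt.fst y = 0 := hy
    exact TrivSqZeroExt.ext (by rw [TrivSqZeroExt.fst_mul, hx', zero_mul, TrivSqZeroExt.fst_zero])
      (by rw [TrivSqZeroExt.snd_mul, hx', hy']; simp)
  have heq : χ a₀ h0 = χ a₁ h1 := by
    refine Algebra.FormallyUnramified.ext' _ hI _ _ fun x => ?_
    show TrivSqZeroExt.fst (ψ a₀ h0 (β x)) = TrivSqZeroExt.fst (ψ a₁ h1 (β x))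
    rw [hfst a₀ h0, hfst a₁ h1]
    congr 3
    show TrivSqZeroExt.fst a₀ = TrivSqZeroExt.fst (i c + DualNumber.eps)
    rw [TrivSqZeroExt.fst_add, DualNumber.fst_eps, add_zero]
  have h3 : ψ a₀ h0 (β b) = ψ a₁ h1 (β b) := DFunLike.congr_fun heq b
  rw [hb, hψ a₀ h0, hψ a₁ h1] at h3
  have h4 := congrArg TrivSqZeroExt.snd h3
  have hi : TrivSqZeroExt.snd (i c) = 0 := by
    rw [show i c = TrivSqZeroExt.inl c from TrivSqZeroExt.algebraMap_eq_inl' k k k c, TrivSqZeroExt.snd_inl]
  rw [TrivSqZeroExt.snd_add, hi, DualNumber.snd_eps, zero_add] at h4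
  exact zero_ne_one h4

end Groth.Agent.PthRoot
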