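import Mathlib
import Groth.Agent.PthRoot.Core

/-!
# Descent of an extension across a `p`-th root
-/

set_option autoImplicit false
set_option linter.style.haveILetI false
set_option backward.isDefEq.respectTransparency false
set_option maxHeartbeats 1000000

universe u

open IsLocalRing TensorProduct Polynomial

noncomputable section

namespace Groth.Agent.PthRoot

/-- In a field extension of prime degree generated by `t`, a subalgebra with an element outside the base contains `t`. -/
theorem mem_of_prime_degree {K Ω : Type u} [Field K] [Field Ω] [Algebra K Ω] (R : Subalgebra K Ω) {p : ℕ}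
    (hp : p.Prime) (t : Ω) (ht : IsIntegral K t) (hdeg : (minpoly K t).natDegree = p) (y : Ω) (hyR : y ∈ R)
    (hy : y ∈ IntermediateField.adjoin K {t}) (hy' : y ∉ (algebraMap K Ω).range) : t ∈ R := by
  haveI : FiniteDimensional K (IntermediateField.adjoin K {t}) := IntermediateField.adjoin.finiteDimensional ht
  let L := IntermediateField.adjoin K {y}
  have hle : L ≤ IntermediateField.adjoin K {t} := by
    rw [IntermediateField.adjoin_simple_le_iff]; exact hy
  haveI : FiniteDimensional K L := FiniteDimensional.of_injective (IntermediateField.inclusion hle).toLinearMap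
    (IntermediateField.inclusion_injective hle)
  have hyint : IsIntegral K y :=
    (IntermediateField.isIntegral_iff (x := (⟨y, hy⟩ : IntermediateField.adjoin K {t}))).1 (IsIntegral.of_finite K _)
  have hdvd : Module.finrank K L ∣ p := by
    letI : Algebra L (IntermediateField.adjoin K {t}) := (IntermediateField.inclusion hle).toRingHom.toAlgebra
    haveI : IsScalarTower K L (IntermediateField.adjoin K {t}) := IsScalarTower.of_algebraMap_eq fun _ => rfl
    refine ⟨Module.finrank L (IntermediateField.adjoin K {t}), ?_⟩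
    rw [Module.finrank_mul_finrank, IntermediateField.adjoin.finrank ht, hdeg]
  rcases hp.eq_one_or_self_of_dvd _ hdvd with h | h
  · refine absurd ?_ hy'
    have hbot : L = ⊥ := IntermediateField.finrank_eq_one_iff.1 h
    exact IntermediateField.mem_bot.1 (hbot ▸ IntermediateField.mem_adjoin_simple_self K y)
  · have hL : L = IntermediateField.adjoin K {t} :=
      IntermediateField.eq_of_le_of_finrank_eq hle (by rw [h, IntermediateField.adjoin.finrank ht, hdeg])
    have ht' : t ∈ L.toSubalgebra := hL ▸ IntermediateField.mem_adjoin_simple_self K t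
    rw [IntermediateField.adjoin_simple_toSubalgebra_of_isAlgebraic hyint.isAlgebraic] at ht'
    exact Algebra.adjoin_le (Set.singleton_subset_iff.2 hyR) ht'

/-- A `p`-th root in the image of the generic fibre comes from an integral element. -/
theorem exists_integral_preimage {S K E Ω : Type u} [CommRing S] [Field K] [Algebra S K] [CommRing E] [Algebra K E]
    [Algebra S E] [IsScalarTower S K E] [Algebra.FormallyEtale K E] [Algebra.FiniteType K E] [Field Ω] [Algebra K Ω]
    (φ : E →ₐ[K] Ω) {p : ℕ} (hp : 0 < p) (s : S) (e : E)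
    (he : φ e ^ p = algebraMap K Ω (algebraMap S K s)) : ∃ z : E, IsIntegral S z ∧ φ z = φ e := by
  classical
  obtain ⟨I, hI, L, _, _, ε, -⟩ :=
    (Algebra.FormallyEtale.iff_exists_algEquiv_prod (K := K) (A := E)).1 inferInstance
  haveI := Fintype.ofFinite I
  let u : I → E := fun i => ε.symm (Pi.single i 1)
  have hsum : ∑ i, u i = 1 := by
    simp only [u, ← map_sum, Finset.univ_sum_single]
    exact map_one ε.symm
  obtain ⟨i, hi⟩ : ∃ i, φ (u i) ≠ 0 := by
    by_contra h
    push_neg at h
    exact zero_ne_one ((Finset.sum_eq_zero fun i _ => h i).symm.trans ((map_sum φ u _).symm.trans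
      ((congrArg φ hsum).trans (map_one φ))))
  have hid : u i * u i = u i := by
    simp only [u, ← map_mul, ← Pi.single_mul, mul_one]
  have hφi : φ (u i) = 1 := by
    have := congrArg φ hid
    rw [map_mul] at this
    exact mul_right_cancel₀ hi (this.trans (one_mul _).symm)
  refine ⟨e * u i, ?_, by rw [map_mul, hφi, mul_one]⟩
  let y : L i := ε e i
  have heu : e * u i = ε.symm (Pi.single i y) := by
    refine ε.injective ?_
    rw [map_mul, ε.apply_symm_apply, ε.apply_symm_apply]
    funext j
    rcases eq_or_ne j i with rfl | hj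
    · simp [y]
    · simp [Pi.single_eq_of_ne hj]
  -- the factor embeds
  let ψ : L i →+* Ω :=
    { toFun := fun x => φ (ε.symm (Pi.single i x))
      map_one' := hφi
      map_mul' := fun a b => by rw [← map_mul, ← map_mul, ← Pi.single_mul]
      map_zero' := by rw [Pi.single_zero, map_zero, map_zero]
      map_add' := fun a b => by rw [← map_add, ← map_add, ← Pi.single_add] }
  have hy : y ^ p = algebraMap K (L i) (algebraMap S K s) := by
    refine ψ.injective ?_
    rw [map_pow]
    show φ (ε.symm (Pi.single i y)) ^ p = φ (ε.symm (Pi.single i _))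
    rw [← heu, map_mul, hφi, mul_one, he,
      show (Pi.single i (algebraMap K (L i) (algebraMap S K s)) : ∀ j, L j) =
        algebraMap K (∀ j, L j) (algebraMap S K s) * Pi.single i 1 by
          funext j
          rcases eq_or_ne j i with rfl | hj
          · simp
          · simp [Pi.single_eq_of_ne hj],
      map_mul, map_mul, hφi, mul_one, ε.symm.commutes, φ.commutes]
  have hzp : (e * u i) ^ p = algebraMap S E s * u i := by
    refine ε.injective ?_
    rw [heu, map_pow, ε.apply_symm_apply, map_mul, IsScalarTower.algebraMap_apply S K E, ε.commutes,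
      ε.apply_symm_apply]
    funext j
    rcases eq_or_ne j i with rfl | hj
    · simp [hy]
    · simp [Pi.single_eq_of_ne hj, zero_pow hp.ne']
  refine ⟨X ^ (p + p) - C s * X ^ p, Polynomial.monic_X_pow_sub ?_, ?_⟩
  · refine lt_of_le_of_lt (Polynomial.degree_C_mul_X_pow_le _ _) ?_
    exact_mod_cast Nat.lt_add_of_pos_right hp
  · rw [eval₂_sub, eval₂_mul, eval₂_C, eval₂_X_pow, eval₂_X_pow, pow_add, hzp]
    linear_combination (algebraMap S E s) ^ 2 * hid

/-- The key statement: all geometric points are rational. -/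
theorem mem_range_point {A : Type u} [CommRing A] [IsDomain A] [IsNoetherianRing A] [IsIntegrallyClosed A]
    (hAh : HenselianLocalRing A) [IsSepClosed (ResidueField A)] {p : ℕ} (hp : p.Prime) {f : A} (hf : Prime f)
    (k : Type u) [Field k] [IsAlgClosed k] [Algebra A k] (hpk : (p : k) = 0) (hfk : algebraMap A k f ≠ 0)
    (K : Type u) [Field K] [Algebra A K] [IsFractionRing A K]
    (S : Type u) [CommRing S] [IsDomain S] [Algebra A S] [IsLocalization.Away f S] [Algebra S K] [IsScalarTower A S K]
    {B : Type u} [CommRing B] [Algebra A B] [Algebra S B] [IsScalarTower A S B] [Module.Finite S B]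
    [Algebra.Etale S B]
    (C₁ : Type u) [CommRing C₁] [Algebra (AdjoinRoot (X ^ p - C f : A[X])) C₁]
    [Module.Finite (AdjoinRoot (X ^ p - C f : A[X])) C₁] [Algebra.Etale (AdjoinRoot (X ^ p - C f : A[X])) C₁]
    (h : Localization.Away (algebraMap (AdjoinRoot (X ^ p - C f : A[X])) C₁ (AdjoinRoot.of (X ^ p - C f : A[X]) f))
        ≃ₐ[AdjoinRoot (X ^ p - C f : A[X])] AdjoinRoot (X ^ p - C f : A[X]) ⊗[A] B)
    (Ω : Type u) [Field Ω] [IsAlgClosed Ω] [Algebra K Ω] [Algebra A Ω] [IsScalarTower A K Ω]
    (φ : B →ₐ[A] Ω) (b : B) : φ b ∈ (algebraMap K Ω).range := by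
  by_contra hb
  let q : A[X] := X ^ p - C f
  let A₁ := AdjoinRoot q
  have hAK : Function.Injective (algebraMap A K) := IsFractionRing.injective A K
  have hAΩ : Function.Injective (algebraMap A Ω) := by
    rw [IsScalarTower.algebraMap_eq A K Ω]; exact (algebraMap K Ω).injective.comp hAK
  have hqm : q.Monic := monic_X_pow_sub_C _ hp.pos.ne'
  obtain ⟨t, ht⟩ := IsAlgClosed.exists_pow_nat_eq (algebraMap A Ω f) hp.pos
  have hnopow : ∀ x : K, x ^ p ≠ algebraMap A K f := by
    intro x hx
    obtain ⟨a, rfl⟩ := IsIntegrallyClosed.isIntegral_iff.1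
      (show IsIntegral A x from IsIntegral.of_pow hp.pos (hx ▸ isIntegral_algebraMap))
    rw [← map_pow] at hx
    have h1 := hAK hx
    exact hf.not_unit ((hf.irreducible.isUnit_or_isUnit (a := a) (b := a ^ (p - 1))
      (by rw [← pow_succ', Nat.sub_add_cancel hp.pos, h1])).elim (fun hu => h1 ▸ hu.pow p) fun hu => by
        have hu' : IsUnit a := (isUnit_pow_iff (by have := hp.two_le; omega)).1 hu
        exact h1 ▸ hu'.pow p)
  have hirr : Irreducible (q.map (algebraMap A K)) := by
    simpa [q, Polynomial.map_sub, Polynomial.map_pow] using X_pow_sub_C_irreducible_of_prime hp hnopow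
  have hmin : minpoly K t = q.map (algebraMap A K) :=
    (minpoly.eq_of_irreducible_of_monic hirr (by simp [q, ← IsScalarTower.algebraMap_apply, ht]) (hqm.map _)).symm
  have hdeg : (minpoly K t).natDegree = p := by
    rw [hmin, hqm.natDegree_map, natDegree_X_pow_sub_C]
  have htint : IsIntegral K t := IsAlgebraic.isIntegral ⟨_, (hqm.map (algebraMap A K)).ne_zero, by
    simp [q, ← IsScalarTower.algebraMap_apply, ht]⟩
  let j : A₁ →ₐ[A] Ω := AdjoinRoot.liftAlgHom q (Algebra.ofId A Ω) t (by simp [q, eval₂_pow, ht])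
  have hjinj : Function.Injective j := by
    refine (injective_iff_map_eq_zero j).2 fun x hx => ?_
    obtain ⟨g, rfl⟩ := AdjoinRoot.mk_surjective x
    have hg : aeval t g = 0 := by
      rw [← hx]
      exact (AdjoinRoot.liftAlgHom_mk _ _ _ _ g).symm
    rw [AdjoinRoot.mk_eq_zero, ← Polynomial.map_dvd_map (algebraMap A K) hAK hqm, ← hmin]
    exact minpoly.dvd K t (by rw [aeval_map_algebraMap]; exact hg)
  haveI : IsDomain A₁ := hjinj.isDomain j.toRingHom
  haveI : Module.Finite A A₁ := hqm.finite_adjoinRoot
  haveI := hAh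
  haveI : IsLocalRing A₁ := Hensel.isLocalRing_of_isIntegral_domain A A₁
  haveI : IsLocalHom (algebraMap A A₁) := Hensel.isLocalHom_of_isIntegral_local A A₁
  haveI : HenselianLocalRing A₁ := Hensel.henselianLocalRing_of_isIntegral_local A A₁
  haveI : IsSepClosed (ResidueField A₁) := (Hensel.residueField_of_isIntegral A A₁).1
  let T := Localization.Away (algebraMap A A₁ f)
  have hjf : j (algebraMap A A₁ f) ≠ 0 := by
    rw [j.commutes]; exact (map_ne_zero_iff _ hAΩ).2 hf.ne_zero
  have hju : ∀ y : Submonoid.powers (algebraMap A A₁ f), IsUnit (j y) := by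
    rintro ⟨_, m, rfl⟩
    rw [map_pow]
    exact (isUnit_iff_ne_zero.2 hjf).pow m
  let jT : T →ₐ[A] Ω := IsLocalization.liftAlgHom (f := j) hju
  have hjT : ∀ x, jT (algebraMap A₁ T x) = j x := fun x => IsLocalization.lift_eq _ x
  have hjTinj : Function.Injective jT := by
    refine (injective_iff_map_eq_zero jT).2 fun z hz => ?_
    obtain ⟨a, s, rfl⟩ := IsLocalization.exists_mk'_eq (Submonoid.powers (algebraMap A A₁ f)) z
    have h1 := congrArg jT (IsLocalization.mk'_spec T a s)
    rw [map_mul, hz, zero_mul, hjT] at h1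
    rw [hjinj (h1.symm.trans (map_zero j).symm), IsLocalization.mk'_zero]
  -- the points are in the localised root algebra
  letI : Algebra A₁ Ω := j.toRingHom.toAlgebra
  haveI : IsScalarTower A A₁ Ω := IsScalarTower.of_algebraMap_eq fun a => (j.commutes a).symm
  let τ : A₁ ⊗[A] B →ₐ[A₁] Ω := Algebra.TensorProduct.lift (Algebra.ofId A₁ Ω) φ fun _ _ => Commute.all _ _
  let τC : C₁ →ₐ[A₁] Ω := (τ.comp h.toAlgHom).comp (IsScalarTower.toAlgHom A₁ C₁ _)
  haveI : IsScalarTower A₁ A₁ Ω := IsScalarTower.of_algebraMap_eq fun _ => rfl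
  have hφT : ∀ x, φ x ∈ jT.range := by
    intro x
    have hx : φ x = τ (h (h.symm (1 ⊗ₜ x))) := by
      rw [h.apply_symm_apply]
      exact ((Algebra.TensorProduct.lift_tmul _ _ _ _ _).trans (by rw [map_one, one_mul])).symm
    obtain ⟨c, ⟨_, m, rfl⟩, hcm⟩ := IsLocalization.exists_mk'_eq
      (Submonoid.powers (algebraMap A₁ C₁ (AdjoinRoot.of q f))) (h.symm (1 ⊗ₜ x))
    obtain ⟨a, ha⟩ := AbhAbs.mem_range_of_strictlyHenselian (R := A₁) (H := A₁) τC c
    have h1 := congrArg (fun z => τ (h z)) (IsLocalization.mk'_spec (Localization.Away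
      (algebraMap A₁ C₁ (AdjoinRoot.of q f))) c (⟨_, m, rfl⟩ : Submonoid.powers (algebraMap A₁ C₁ (AdjoinRoot.of q f))))
    rw [hcm, map_mul, map_mul, ← hx] at h1
    simp only [map_pow, ← IsScalarTower.algebraMap_apply, AlgEquiv.commutes, AlgHom.commutes] at h1
    erw [h.commutes, τ.commutes] at h1
    have h2 : φ x * j (algebraMap A A₁ f) ^ m = j a := h1.trans ha.symm
    refine ⟨IsLocalization.mk' T a (⟨_, m, rfl⟩ : Submonoid.powers (algebraMap A A₁ f)), ?_⟩
    have h3 := congrArg jT (IsLocalization.mk'_spec T a (⟨_, m, rfl⟩ : Submonoid.powers (algebraMap A A₁ f)))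
    rw [map_mul, hjT, hjT, map_pow, ← h2] at h3
    exact mul_right_cancel₀ (pow_ne_zero m hjf) h3
  let β : B →ₐ[A] T := (AlgEquiv.ofInjective jT hjTinj).symm.toAlgHom.comp (φ.codRestrict jT.range hφT)
  have hβ : ∀ x, jT (β x) = φ x := fun x =>
    congrArg Subtype.val ((AlgEquiv.ofInjective jT hjTinj).apply_symm_apply (φ.codRestrict jT.range hφT x))
  -- the root is the value of an element of the generic fibre
  letI : Algebra S Ω := ((algebraMap K Ω).comp (algebraMap S K)).toAlgebra
  haveI : IsScalarTower S K Ω := IsScalarTower.of_algebraMap_eq fun _ => rfl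
  let φS : B →ₐ[S] Ω :=
    { φ.toRingHom with
      commutes' := fun x => by
        have h := IsLocalization.ringHom_ext (Submonoid.powers f)
          (j := φ.toRingHom.comp (algebraMap S B)) (k := algebraMap S Ω) (RingHom.ext fun a' => by
            show φ (algebraMap S B (algebraMap A S a')) = algebraMap K Ω (algebraMap S K (algebraMap A S a'))
            rw [← IsScalarTower.algebraMap_apply A S B, ← IsScalarTower.algebraMap_apply A S K, φ.commutes,
              ← IsScalarTower.algebraMap_apply])
        exact RingHom.congr_fun h x }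
  let φE : K ⊗[S] B →ₐ[K] Ω := Algebra.TensorProduct.lift (Algebra.ofId K Ω) φS fun _ _ => Commute.all _ _
  have hφE : ∀ x, φE (1 ⊗ₜ x) = φ x := fun x =>
    (Algebra.TensorProduct.lift_tmul _ _ _ _ _).trans (by rw [map_one, one_mul]; rfl)
  have hbT : φ b ∈ IntermediateField.adjoin K {t} := by
    let T' := ((IntermediateField.adjoin K {t}).toSubalgebra.restrictScalars A)
    have hj : ∀ a, j a ∈ T' := fun a => by
      obtain ⟨g, rfl⟩ := AdjoinRoot.mk_surjective a
      rw [show j (AdjoinRoot.mk q g) = aeval t g from AdjoinRoot.liftAlgHom_mk _ _ _ _ g]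
      exact Algebra.adjoin_le (Set.singleton_subset_iff.2 (IntermediateField.mem_adjoin_simple_self K t) :
        {t} ⊆ (T' : Set Ω)) (Polynomial.aeval_mem_adjoin_singleton A t)
    obtain ⟨a, ⟨_, m, rfl⟩, hz⟩ := IsLocalization.exists_mk'_eq (Submonoid.powers (algebraMap A A₁ f)) (β b)
    have h1 := congrArg jT (IsLocalization.mk'_spec T a (⟨_, m, rfl⟩ : Submonoid.powers (algebraMap A A₁ f)))
    rw [hz, map_mul, hjT, hjT, hβ, map_pow] at h1
    rw [eq_div_of_mul_eq (pow_ne_zero m hjf) h1]
    exact (IntermediateField.adjoin K {t}).div_mem (hj a) (pow_mem (hj _) m)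
  obtain ⟨e, he⟩ := mem_of_prime_degree φE.range hp t htint hdeg (φ b) ⟨_, hφE b⟩ hbT hb
  change φE e = t at he
  haveI : Algebra.FiniteType K (K ⊗[S] B) := inferInstance
  obtain ⟨z, hz, hze⟩ := exists_integral_preimage φE hp.pos (algebraMap A S f) e
    (by rw [he, ht, ← IsScalarTower.algebraMap_apply A S K, ← IsScalarTower.algebraMap_apply])
  haveI : IsFractionRing S K := IsFractionRing.isFractionRing_of_isLocalization (Submonoid.powers f) S K (by
    rintro _ ⟨m, rfl⟩
    exact pow_mem (mem_nonZeroDivisors_of_ne_zero hf.ne_zero) m)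
  haveI : IsIntegrallyClosed S := isIntegrallyClosed_of_isLocalization S (Submonoid.powers f) (by
    rintro _ ⟨m, rfl⟩
    exact pow_mem (mem_nonZeroDivisors_of_ne_zero hf.ne_zero) m)
  obtain ⟨b', hb'⟩ := exists_of_isIntegral z hz
  refine not_mem_range_of_root S p hp k hpk hfk T β b' (hjTinj ?_)
  rw [hβ, hjT, ← hφE b', hb', hze, he]
  exact (AdjoinRoot.liftAlgHom_root _ _ _ _).symm

end Groth.Agent.PthRoot
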