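import Mathlib
import Groth.Agent.PthRoot.Main

/-!
# Descent of an extension across a `p`-th root: the statement
-/

set_option autoImplicit false
set_option linter.style.haveILetI false
set_option backward.isDefEq.respectTransparency false
set_option maxHeartbeats 1000000

universe u

open IsLocalRing TensorProduct Polynomial

noncomputable section

namespace Groth.Agent.PthRoot

theorem prime_of_regular {A : Type u} [CommRing A] [IsDomain A] {f : A}
    (hreg : IsRegularLocalRing (A ⧸ Ideal.span {f})) (hf : f ≠ 0) : Prime f := by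
  haveI : IsDomain (A ⧸ Ideal.span {f}) := RegLoc6.isDomain_of_isRegularLocalRing _
  exact (Ideal.span_singleton_prime hf).1 ((Ideal.Quotient.isDomain_iff_prime _).1 inferInstance)

/-- A point of characteristic `p` where `f` is invertible. -/
theorem exists_charP_point {A : Type u} [CommRing A] [IsDomain A] [IsNoetherianRing A] [IsLocalRing A] (p : ℕ)
    [CharP (ResidueField A) p] {f : A} (hf : Prime f) (hp : (p : A) ∉ Ideal.span {f}) :
    ∃ (k : Type u) (_ : Field k) (_ : IsAlgClosed k) (_ : Algebra A k), (p : k) = 0 ∧ algebraMap A k f ≠ 0 := by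
  have hpm : (p : A) ∈ maximalIdeal A := by
    rw [← residue_eq_zero_iff, map_natCast]
    exact CharP.cast_eq_zero _ p
  obtain ⟨P, hP, -⟩ := Ideal.exists_minimalPrimes_le (J := maximalIdeal A)
    ((Ideal.span_singleton_le_iff_mem _).2 hpm)
  haveI := hP.1.1
  have hpP : (p : A) ∈ P := hP.1.2 (Ideal.mem_span_singleton_self _)
  have hfP : f ∉ P := by
    intro hfP
    haveI : (Ideal.span {f}).IsPrime := (Ideal.span_singleton_prime hf.ne_zero).2 hf
    have hlt : Ideal.span {f} < P :=
      lt_of_le_not_ge ((Ideal.span_singleton_le_iff_mem _).2 hfP) fun h => hp (h hpP)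
    have h1 : P.height ≤ 1 := Ideal.height_le_one_of_isPrincipal_of_mem_minimalPrimes _ P hP
    have h2 := (Ideal.height_strict_mono_of_isPrime hlt).trans_le h1
    exact Ideal.span_singleton_eq_bot.not.2 hf.ne_zero (Ideal.height_eq_zero_iff_eq_bot.1 (Order.lt_one_iff.1 h2))
  let k := AlgebraicClosure (FractionRing (A ⧸ P))
  letI : Algebra A k := ((algebraMap (FractionRing (A ⧸ P)) k).comp
    ((algebraMap (A ⧸ P) (FractionRing (A ⧸ P))).comp (Ideal.Quotient.mk P))).toAlgebra
  refine ⟨k, inferInstance, inferInstance, inferInstance, ?_, ?_⟩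
  · rw [← map_natCast (algebraMap A k)]
    show algebraMap (FractionRing (A ⧸ P)) k (algebraMap (A ⧸ P) _ (Ideal.Quotient.mk P p)) = 0
    rw [Ideal.Quotient.eq_zero_iff_mem.2 hpP, map_zero, map_zero]
  · show algebraMap (FractionRing (A ⧸ P)) k (algebraMap (A ⧸ P) _ (Ideal.Quotient.mk P f)) ≠ 0
    rw [Ne, map_eq_zero, IsFractionRing.to_map_eq_zero_iff, Ideal.Quotient.eq_zero_iff_mem]
    exact hfP

/-- The descent. -/
theorem exists_extension {A : Type u} [CommRing A] [IsDomain A] [IsNoetherianRing A] [IsIntegrallyClosed A]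
    (hAh : HenselianLocalRing A) [IsSepClosed (ResidueField A)] (p : ℕ) (hpp : p.Prime) [CharP (ResidueField A) p]
    (f : A) (hf0 : f = 0 ∨ Prime f) (hp : (p : A) ∉ Ideal.span {f})
    (B : Type u) [CommRing B] [Algebra A B] [Algebra (Localization.Away f) B]
    [IsScalarTower A (Localization.Away f) B] [Module.Finite (Localization.Away f) B]
    [Algebra.Etale (Localization.Away f) B]
    (C₁ : Type u) [CommRing C₁] [Algebra (AdjoinRoot (X ^ p - C f : A[X])) C₁]
    [Module.Finite (AdjoinRoot (X ^ p - C f : A[X])) C₁] [Algebra.Etale (AdjoinRoot (X ^ p - C f : A[X])) C₁]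
    (h : Localization.Away (algebraMap (AdjoinRoot (X ^ p - C f : A[X])) C₁ (AdjoinRoot.of (X ^ p - C f : A[X]) f))
        ≃ₐ[AdjoinRoot (X ^ p - C f : A[X])] AdjoinRoot (X ^ p - C f : A[X]) ⊗[A] B) :
    ∃ (C' : Type u) (_ : CommRing C') (_ : Algebra A C'), Module.Finite A C' ∧ Algebra.Etale A C' ∧
      Nonempty (Localization.Away (algebraMap A C' f) ≃ₐ[A] B) := by
  let S := Localization.Away f
  rcases hf0 with rfl | hf
  · haveI : Subsingleton S := IsLocalization.subsingleton (M := Submonoid.powers (0 : A)) ⟨1, pow_one 0⟩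
    haveI : Subsingleton B := Module.subsingleton S B
    haveI : Subsingleton (Localization.Away (algebraMap A S (0 : A))) :=
      IsLocalization.subsingleton (M := Submonoid.powers (algebraMap A S (0 : A))) ⟨1, (pow_one _).trans (map_zero _)⟩
    haveI : Module.Finite A S := Module.Finite.of_finite
    exact ⟨S, inferInstance, inferInstance, inferInstance, Algebra.Etale.of_isLocalizationAway (0 : A),
      ⟨{ toFun := fun _ => 0, invFun := fun _ => 0, left_inv := fun _ => Subsingleton.elim _ _,
         right_inv := fun _ => Subsingleton.elim _ _, map_mul' := fun _ _ => Subsingleton.elim _ _,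
         map_add' := fun _ _ => Subsingleton.elim _ _, commutes' := fun _ => Subsingleton.elim _ _ }⟩⟩
  haveI := hAh
  obtain ⟨k, _, _, _, hpk, hfk⟩ := exists_charP_point p hf hp
  let K := FractionRing A
  have hfK : IsUnit (algebraMap A K f) :=
    isUnit_iff_ne_zero.2 ((map_ne_zero_iff _ (IsFractionRing.injective A K)).2 hf.ne_zero)
  have hpow : Submonoid.powers f ≤ nonZeroDivisors A := by
    rintro _ ⟨m, rfl⟩
    exact pow_mem (mem_nonZeroDivisors_of_ne_zero hf.ne_zero) m
  letI : Algebra S K := (IsLocalization.Away.lift f hfK : S →+* K).toAlgebra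
  haveI : IsScalarTower A S K := IsScalarTower.of_algebraMap_eq (R := A) (S := S) (A := K)
    fun a => (IsLocalization.Away.lift_eq f hfK a).symm
  haveI : IsDomain S := IsLocalization.isDomain_of_le_nonZeroDivisors (S := S) hpow
  haveI : IsFractionRing S K := IsFractionRing.isFractionRing_of_isLocalization (Submonoid.powers f) S K hpow
  haveI : IsIntegrallyClosed S := isIntegrallyClosed_of_isLocalization S (Submonoid.powers f) hpow
  let Ω := AlgebraicClosure K
  haveI : IsScalarTower A K Ω := inferInstance
  let E := K ⊗[S] B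
  obtain ⟨ι, hι, ⟨Θ⟩⟩ := AbhAbs.exists_algEquiv_pi_of_points Ω (X := E) (K := K) fun τ x => by
    induction x using TensorProduct.induction_on with
    | zero => rw [map_zero]; exact zero_mem _
    | tmul c y =>
      rw [← mul_one c, ← one_mul y, ← Algebra.TensorProduct.tmul_mul_tmul, map_mul]
      refine mul_mem ⟨c, (τ.commutes c).symm⟩ ?_
      let φ : B →ₐ[A] Ω :=
        { τ.toRingHom.comp (Algebra.TensorProduct.includeRight : B →ₐ[S] E).toRingHom with
          commutes' := fun a => by
            show τ ((Algebra.TensorProduct.includeRight : B →ₐ[S] E) (algebraMap A B a)) = _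
            rw [IsScalarTower.algebraMap_apply A S B, AlgHom.commutes, Algebra.TensorProduct.algebraMap_apply,
              ← IsScalarTower.algebraMap_apply A S K]
            exact τ.commutes _ }
      exact mem_range_point hAh hpp hf k hpk hfk K S C₁ h Ω φ y
    | add u v hu hv => rw [map_add]; exact add_mem hu hv
  haveI := Fintype.ofFinite ι
  haveI : Module.Flat S B := Algebra.Smooth.flat S B
  -- the integral elements of the generic fibre
  let θ : B →ₐ[S] ι → K := (Θ.toAlgHom.restrictScalars S).comp Algebra.TensorProduct.includeRight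
  let π : (ι → S) →ₐ[S] ι → K := AlgHom.compLeft (Algebra.ofId S K) ι
  have hπ : Function.Injective π := fun x y hxy => funext fun i =>
    IsFractionRing.injective S K (congrFun hxy i)
  have hθπ : ∀ b, θ b ∈ π.range := fun b => by
    have hint : ∀ i, IsIntegral S (θ b i) := fun i =>
      ((Algebra.IsIntegral.isIntegral (R := S) b).map θ).map (Pi.evalAlgHom S (fun _ => K) i)
    choose s hs using fun i => IsIntegrallyClosed.isIntegral_iff.1 (hint i)
    exact ⟨s, funext hs⟩
  let ρ : B →ₐ[S] ι → S := (AlgEquiv.ofInjective π hπ).symm.toAlgHom.comp (θ.codRestrict π.range hθπ)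
  have hρ : ∀ b, π (ρ b) = θ b := fun b =>
    congrArg Subtype.val ((AlgEquiv.ofInjective π hπ).apply_symm_apply (θ.codRestrict π.range hθπ b))
  have hbij : Function.Bijective ρ := by
    refine ⟨fun a b hab => ?_, fun s => ?_⟩
    · have h1 : θ a = θ b := by rw [← hρ, ← hρ, hab]
      exact Algebra.TensorProduct.includeRight_injective (A := K) (B := B) (IsFractionRing.injective S K)
        (Θ.injective h1)
    · obtain ⟨b, hb⟩ := exists_of_isIntegral (Θ.symm (π s)) (((Algebra.IsIntegral.isIntegral (R := S) s).map π).map (Θ.symm.toAlgHom.restrictScalars S))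
      refine ⟨b, hπ ?_⟩
      rw [hρ]
      show Θ ((1 : K) ⊗ₜ b) = _
      rw [hb, Θ.apply_symm_apply]
  let C' := ι → A
  refine ⟨C', inferInstance, inferInstance, inferInstance, inferInstance, ?_⟩
  classical
  let T := S ⊗[A] C'
  letI : Algebra C' T := Algebra.TensorProduct.rightAlgebra
  haveI : Algebra.IsPushout A S C' T := TensorProduct.isPushout
  haveI : Algebra.IsPushout A C' S T := Algebra.IsPushout.symm inferInstance
  haveI : IsLocalization.Away (algebraMap A C' f) T := by
    have := (Algebra.isLocalization_iff_isPushout (Submonoid.powers f) S (R := A) (T := C') (B := T)).2 inferInstance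
    rwa [Algebra.algebraMapSubmonoid_powers] at this
  let e₁ : Localization.Away (algebraMap A C' f) ≃ₐ[A] T :=
    (IsLocalization.algEquiv (Submonoid.powers (algebraMap A C' f)) _ T).restrictScalars A
  let e₂ : T ≃ₐ[A] ι → S := (Algebra.TensorProduct.piScalarRight A S S ι).restrictScalars A
  exact ⟨e₁.trans (e₂.trans ((AlgEquiv.ofBijective ρ hbij).symm.restrictScalars A))⟩

end Groth.Agent.PthRoot
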